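import Cfsg.Agent.Lib.Helper12.SylFi23.Base

/-!
The transpositions of the presented group Fi23 and the points of its permutation representation of degree `31671`:
an automorphism which preserves the class of the transpositions is determined by the points of the images of the
generators, and it is inner when these points are the images of the points of the generators under an element of the
group (helper12).
-/

set_option autoImplicit false
set_option maxRecDepth 100000

namespace Cfsg.Agent.Lib.Helper12.OutFi23.Transp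

open Cfsg.Spor Cfsg.Agent.Lib.Helper12.TC Cfsg.Agent.Lib.Helper12.TC.Fi23o31671
  Cfsg.Agent.Lib.Helper12.TC.Fi23Pres Cfsg.Agent.Lib.Helper12.Ord
  Cfsg.Agent.Lib.Helper12.Ord.Fi23Simple Cfsg.Agent.Lib.Helper12.Ord.Fi23Transp
  Cfsg.Agent.Lib.Helper12.SylFi23.Base

/-- the action on the natural numbers: the numbers which are not points are fixed -/
noncomputable def act (x : PresentedGroup R) (p : ℕ) : ℕ :=
  if h : p < cN then ((rho x ⟨p, h⟩ : Fin cN) : ℕ) else p

theorem act_of_lt (x : PresentedGroup R) {p : ℕ} (h : p < cN) : act x p = ((rho x ⟨p, h⟩ : Fin cN) : ℕ) := by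
  unfold act
  rw [dif_pos h]

theorem act_lt (x : PresentedGroup R) {p : ℕ} (h : p < cN) : act x p < cN := by
  rw [act_of_lt x h]
  exact (rho x ⟨p, h⟩).isLt

theorem act_one (p : ℕ) : act 1 p = p := by
  unfold act
  split
  · rw [map_one]; rfl
  · rfl

theorem act_mul (x y : PresentedGroup R) (p : ℕ) : act (x * y) p = act x (act y p) := by
  by_cases h : p < cN
  · rw [act_of_lt _ h, act_of_lt y h, act_of_lt x (rho y ⟨p, h⟩).isLt, map_mul, Equiv.Perm.mul_apply]
  · unfold act
    rw [dif_neg h, dif_neg h, dif_neg h]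

theorem act_inv_act (x : PresentedGroup R) (p : ℕ) : act x⁻¹ (act x p) = p := by
  rw [← act_mul, inv_mul_cancel, act_one]

theorem act_inv_of_fix {x : PresentedGroup R} {p : ℕ} (h : act x p = p) : act x⁻¹ p = p := by
  have := act_inv_act x p
  rw [h] at this
  exact this

theorem act_word (w : List ℕ) (hw : ∀ s ∈ w, s < 27) {p : ℕ} (h : p < cN) :
    act (wprod uu w) p = Fn.applyW TT w p := by
  rw [act_of_lt _ h, Fn.rho_word uu rho rho_uu w hw]

/-- the element `e` is the transposition of the point `p` -/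
def IsT (e : PresentedGroup R) (p : ℕ) : Prop := ∃ g : PresentedGroup R, e = g * tt * g⁻¹ ∧ act g 0 = p

theorem isT_lt {e : PresentedGroup R} {p : ℕ} (h : IsT e p) : p < cN := by
  obtain ⟨g, _, rfl⟩ := h
  exact act_lt g hN0

theorem mem_Hs_fix {h : PresentedGroup R} (hh : h ∈ Hs) : act h 0 = 0 := by
  obtain ⟨Φ, hΦ⟩ := rho_equiv
  rw [act_of_lt h hN0]
  have h1 : ((h : PresentedGroup R) : PresentedGroup R ⧸ Hs) = ((1 : PresentedGroup R) : PresentedGroup R ⧸ Hs) := by
    rw [QuotientGroup.eq]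
    simpa using hh
  have h2 := congrArg Φ h1
  rw [hΦ, hΦ, map_one] at h2
  rw [h2]
  rfl

theorem fix_iff_comm (g : PresentedGroup R) : act g 0 = 0 ↔ g * tt = tt * g := by
  constructor
  · intro h
    apply central
    apply mem_Hs_of_fix
    apply Fin.ext
    rw [act_of_lt g hN0] at h
    exact h
  · intro h
    apply mem_Hs_fix
    rw [← centralizer_tt, Subgroup.mem_centralizer_singleton_iff]
    exact h

/-- the commuting of an element with a transposition -/
theorem comm_iff {e : PresentedGroup R} {p : ℕ} (h : IsT e p) (x : PresentedGroup R) :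
    x * e = e * x ↔ act x p = p := by
  obtain ⟨g, rfl, rfl⟩ := h
  have h1 : x * (g * tt * g⁻¹) = g * tt * g⁻¹ * x ↔ (g⁻¹ * x * g) * tt = tt * (g⁻¹ * x * g) := by
    constructor
    · intro h
      have : g⁻¹ * (x * (g * tt * g⁻¹)) * g = g⁻¹ * (g * tt * g⁻¹ * x) * g := by rw [h]
      have e1 : g⁻¹ * (x * (g * tt * g⁻¹)) * g = (g⁻¹ * x * g) * tt := by group
      have e2 : g⁻¹ * (g * tt * g⁻¹ * x) * g = tt * (g⁻¹ * x * g) := by group
      rw [e1, e2] at this
      exact this
    · intro h
      have e1 : x * (g * tt * g⁻¹) = g * ((g⁻¹ * x * g) * tt) * g⁻¹ := by group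
      have e2 : g * tt * g⁻¹ * x = g * (tt * (g⁻¹ * x * g)) * g⁻¹ := by group
      rw [e1, e2, h]
  rw [h1, ← fix_iff_comm, act_mul, act_mul]
  constructor
  · intro h
    have := congrArg (act g) h
    rw [← act_mul, mul_inv_cancel, act_one] at this
    exact this
  · intro h
    rw [h, act_inv_act]

theorem point_unique {e : PresentedGroup R} {p p' : ℕ} (h : IsT e p) (h' : IsT e p') : p = p' := by
  obtain ⟨g, rfl, rfl⟩ := h
  obtain ⟨g', hg', rfl⟩ := h'
  have h1 : (g'⁻¹ * g) * tt = tt * (g'⁻¹ * g) := by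
    have e1 : (g'⁻¹ * g) * tt = g'⁻¹ * (g * tt * g⁻¹) * g := by group
    rw [e1, hg']
    group
  have h2 := (fix_iff_comm _).mpr h1
  rw [act_mul] at h2
  have := congrArg (act g') h2
  rw [← act_mul, mul_inv_cancel, act_one] at this
  exact this

theorem elt_unique {e e' : PresentedGroup R} {p : ℕ} (h : IsT e p) (h' : IsT e' p) : e = e' := by
  obtain ⟨g, rfl, rfl⟩ := h
  obtain ⟨g', rfl, hp⟩ := h'
  have h2 : act (g'⁻¹ * g) 0 = 0 := by
    rw [act_mul, ← hp, act_inv_act]
  have h1 := (fix_iff_comm _).mp h2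
  have e1 : g * tt * g⁻¹ = g' * ((g'⁻¹ * g) * tt) * g⁻¹ := by group
  rw [e1, h1]
  group

theorem isT_conj {e : PresentedGroup R} {p : ℕ} (h : IsT e p) (x : PresentedGroup R) :
    IsT (x * e * x⁻¹) (act x p) := by
  obtain ⟨g, rfl, rfl⟩ := h
  exact ⟨x * g, by group, act_mul x g 0⟩

theorem isT_tt : IsT tt 0 := ⟨1, by group, act_one 0⟩

/-- the point of a generator -/
def qp (k : ℕ) : ℕ := qpts.getD k 0

theorem qp_lt : ∀ k < 10, qp k < cN := by decide

theorem isT_gen {k : ℕ} (hk : k < 10) : IsT (uu k) (qp k) := by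
  refine ⟨wprod v (cw k), ?_, ?_⟩
  · rw [uu_gen k hk]
    exact conj_gen k hk
  · rw [act_of_lt _ hN0, Fn.rho_word v rho rho_v (cw k) (cw_lt k hk)]
    exact cw_pt k hk

theorem ne_one_of_isT {e : PresentedGroup R} {p : ℕ} (h : IsT e p) : e ≠ 1 := by
  obtain ⟨g, rfl, _⟩ := h
  intro h1
  apply tt_ne_one
  have : tt = g⁻¹ * (g * tt * g⁻¹) * g := by group
  rw [this, h1]
  group

theorem mem_conjugatesOf_iff (e : PresentedGroup R) : e ∈ conjugatesOf tt ↔ ∃ p, IsT e p := by
  show IsConj tt e ↔ _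
  rw [isConj_iff]
  constructor
  · rintro ⟨c, hc⟩
    exact ⟨_, c, hc.symm, rfl⟩
  · rintro ⟨_, c, hc, _⟩
    exact ⟨c, hc.symm⟩

theorem wprod_reverse_lt (w : List ℕ) (hw : ∀ s ∈ w, s < 10) : wprod uu w.reverse = (wprod uu w)⁻¹ := by
  rw [wprod_uu_eq w hw, wprod_uu_eq w.reverse (fun s hs => hw s (List.mem_reverse.mp hs))]
  exact wprod_reverse_of_invol v hvsq w

/-- the transposition of the image of the point of a generator under a word -/
theorem isT_word (w : List ℕ) (hw : ∀ s ∈ w, s < 10) {k : ℕ} (hk : k < 10) :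
    IsT (wprod uu (w ++ k :: w.reverse)) (Fn.applyW TT w (qp k)) := by
  rw [wprod_append, wprod_cons, wprod_reverse_lt w hw, ← mul_assoc,
    ← act_word w (fun s hs => lt_trans (hw s hs) (by norm_num)) (qp_lt k hk)]
  exact isT_conj (isT_gen hk) _

/-- the transposition of the image of the first point under a word -/
theorem isT_word_tt (w : List ℕ) (hw : ∀ s ∈ w, s < 10) :
    IsT (wprod uu (w ++ 10 :: w.reverse)) (Fn.applyW TT w 0) := by
  rw [wprod_append, wprod_cons, wprod_reverse_lt w hw, ← mul_assoc, ← tt_eq_uu,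
    ← act_word w (fun s hs => lt_trans (hw s hs) (by norm_num)) hN0]
  exact isT_conj isT_tt _

/-- the automorphisms which preserve the class of the transpositions -/
def Pres (β : PresentedGroup R ≃* PresentedGroup R) : Prop :=
  ∀ e p, IsT e p → ∃ p', IsT (β e) p'

theorem pres_of_tt (β : PresentedGroup R ≃* PresentedGroup R) (h : β tt ∈ conjugatesOf tt) : Pres β := by
  rw [mem_conjugatesOf_iff] at h
  obtain ⟨p0, h0⟩ := h
  rintro _ _ ⟨g, rfl, rfl⟩
  have h1 := isT_conj h0 (β g)
  rw [← map_inv, ← map_mul, ← map_mul] at h1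
  exact ⟨_, h1⟩

/-- the statement for the automorphisms which fix the generators of a list -/
def Q (S : List ℕ) : Prop :=
  ∀ β : PresentedGroup R ≃* PresentedGroup R, Pres β → (∀ k ∈ S, β (uu k) = uu k) →
    ∃ g : PresentedGroup R, ∀ x, β x = g * x * g⁻¹

theorem base (S : List ℕ) (hS : ∀ k < 10, k ∈ S) : Q S := by
  intro β _ hfix
  refine ⟨1, ?_⟩
  have h : β.toMonoidHom = MonoidHom.id (PresentedGroup R) := by
    apply PresentedGroup.ext
    intro y
    obtain ⟨hy1, hy2⟩ := hidx y
    have e : uu (idx y) = PresentedGroup.of y := by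
      rw [uu_gen (idx y) hy1, hy2]
      rfl
    rw [← e]
    exact hfix _ (hS _ hy1)
  intro x
  have := congrArg (fun f => f x) h
  rw [one_mul, inv_one, mul_one]
  exact this

/-- the reduction by an inner automorphism -/
theorem reduce (β : PresentedGroup R ≃* PresentedGroup R) (hP : Pres β) (g : PresentedGroup R) (S : List ℕ)
    (hS : ∀ k ∈ S, k < 10 ∧ IsT (β (uu k)) (act g (qp k))) (hQ : Q S) :
    ∃ g' : PresentedGroup R, ∀ x, β x = g' * x * g'⁻¹ := by
  have hP' : Pres (MulAut.conj g⁻¹ * β) := by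
    intro e p he
    obtain ⟨p', hp'⟩ := hP e p he
    have h1 := isT_conj hp' g⁻¹
    rw [← MulAut.conj_apply, ← MulAut.mul_apply] at h1
    exact ⟨_, h1⟩
  have hfix : ∀ k ∈ S, (MulAut.conj g⁻¹ * β) (uu k) = uu k := by
    intro k hk
    obtain ⟨hk10, hT⟩ := hS k hk
    have h1 := elt_unique hT (isT_conj (isT_gen hk10) g)
    rw [MulAut.mul_apply, MulAut.conj_apply, h1]
    group
  obtain ⟨g', hg'⟩ := hQ _ hP' hfix
  refine ⟨g * g', ?_⟩
  intro x
  have := hg' x
  rw [MulAut.mul_apply, MulAut.conj_apply] at this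
  have e : β x = g * (g⁻¹ * β x * g⁻¹⁻¹) * g⁻¹ := by group
  rw [e, this]
  group

/-- the test of the candidates for the point of the image of the generator `n` -/
noncomputable def cand (S : List ℕ) (n p : ℕ) : Bool :=
  allListK S (fun k => (Nat.beq (TT k p) p == Nat.beq (TT k (qp n)) (qp n)) && !(Nat.beq p (qp k)))

theorem TT_eq_iff {k : ℕ} (hk : k < 10) {p : ℕ} (hp : p < cN) : Nat.beq (TT k p) p = true ↔ act (uu k) p = p := by
  rw [act_of_lt _ hp, rho_uu k (lt_trans hk (by norm_num))]
  exact ⟨Nat.eq_of_beq_eq_true, fun h => by rw [h]; exact Nat.beq_refl p⟩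

theorem bool_eq_of_iff {a b : Bool} (h : a = true ↔ b = true) : (a == b) = true := by
  cases a <;> cases b <;> simp_all

theorem comm_gen_iff (β : PresentedGroup R ≃* PresentedGroup R) (k n : ℕ) :
    β (uu k) * β (uu n) = β (uu n) * β (uu k) ↔ uu k * uu n = uu n * uu k := by
  rw [← map_mul, ← map_mul]
  exact β.injective.eq_iff

/-- the point of the image of a generator is a candidate -/
theorem cand_of_fix (β : PresentedGroup R ≃* PresentedGroup R) (S : List ℕ)
    (hS : ∀ k ∈ S, k < 10 ∧ β (uu k) = uu k) {n : ℕ} (hn : n < 10) (hne : ∀ k ∈ S, qp k ≠ qp n)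
    {p : ℕ} (hp : IsT (β (uu n)) p) : cand S n p = true := by
  unfold cand
  rw [allListK_iff]
  intro k hk
  obtain ⟨hk10, hfix⟩ := hS k hk
  have hplt := isT_lt hp
  rw [Bool.and_eq_true]
  constructor
  · apply bool_eq_of_iff
    rw [TT_eq_iff hk10 hplt, TT_eq_iff hk10 (qp_lt n hn), ← comm_iff hp, ← comm_iff (isT_gen hn)]
    have := comm_gen_iff β k n
    rw [hfix] at this
    exact this
  · rw [Bool.not_eq_true']
    cases hb : Nat.beq p (qp k)
    · rfl
    · exfalso
      have e : p = qp k := Nat.eq_of_beq_eq_true hb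
      rw [e] at hp
      have h1 := elt_unique hp (isT_gen hk10)
      rw [← hfix] at h1
      have h2 := β.injective h1
      have h3 := isT_gen hn
      rw [h2] at h3
      exact hne k hk (point_unique (isT_gen hk10) h3)

/-- the points of the orbit of the point of the generator `n` under the stabiliser of the points of the list -/
def Reach (S : List ℕ) (n p : ℕ) : Prop :=
  ∃ g : PresentedGroup R, (∀ k ∈ S, act g (qp k) = qp k) ∧ act g (qp n) = p

/-- a step of the chain of the stabilisers -/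
theorem step (S : List ℕ) (n : ℕ) (hS : ∀ k ∈ S, k < 10) (hn : n < 10) (hne : ∀ k ∈ S, qp k ≠ qp n)
    (hreach : ∀ p < cN, cand S n p = true → Reach S n p) (hQ : Q (n :: S)) : Q S := by
  intro β hP hfix
  obtain ⟨p, hp⟩ := hP _ _ (isT_gen hn)
  have hc := cand_of_fix β S (fun k hk => ⟨hS k hk, hfix k hk⟩) hn hne hp
  obtain ⟨g, hg1, hg2⟩ := hreach p (isT_lt hp) hc
  apply reduce β hP g (n :: S) _ hQ
  intro k hk
  rcases List.mem_cons.mp hk with rfl | hk
  · refine ⟨hn, ?_⟩
    rw [hg2]
    exact hp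
  · refine ⟨hS k hk, ?_⟩
    rw [hg1 k hk, hfix k hk]
    exact isT_gen (hS k hk)

end Cfsg.Agent.Lib.Helper12.OutFi23.Transp
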