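import Cfsg.Agent.Lib.Helper12.SylFi23.Final
import Cfsg.Agent.Lib.Helper12.OutFi23.Transp

/-!
Every automorphism of the presented group Fi23 maps the transpositions to transpositions: after the multiplication with
an inner automorphism it fixes a Sylow `2`-subgroup, so the normal elementary abelian subgroup of order `2 ^ 11` of the
Sylow subgroup, and the elements of this subgroup which are central in the Sylow subgroup; one of the three involutions
among these is a transposition, and the other two are not 3-transpositions (helper12).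
-/

set_option autoImplicit false
set_option maxRecDepth 100000

namespace Cfsg.Agent.Lib.Helper12.OutFi23.Central

open Cfsg Cfsg.Spor Cfsg.Agent.Lib.Helper12.Golay Cfsg.Agent.Lib.Helper12.TC Cfsg.Agent.Lib.Helper12.TC.Fi23o31671
  Cfsg.Agent.Lib.Helper12.TC.Fi23Pres Cfsg.Agent.Lib.Helper12.Ord Cfsg.Agent.Lib.helper4
  Cfsg.Agent.Lib.Helper12.Ord.Fi23Simple Cfsg.Agent.Lib.Helper12.Ord.Fi23Transp
  Cfsg.Agent.Lib.Helper12.M23Ext Cfsg.Agent.Lib.Helper12.M23Ext.ERel
  Cfsg.Agent.Lib.Helper12.M23Ext.Theta Cfsg.Agent.Lib.Helper12.M23Ext.Psi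
  Cfsg.Agent.Lib.Helper12.SylFi23 Cfsg.Agent.Lib.Helper12.SylFi23.Base Cfsg.Agent.Lib.Helper12.SylFi23.IotaDef
  Cfsg.Agent.Lib.Helper12.SylFi23.Iota Cfsg.Agent.Lib.Helper12.SylFi23.Inj Cfsg.Agent.Lib.Helper12.SylFi23.Nu
  Cfsg.Agent.Lib.Helper12.SylFi23.TBarData Cfsg.Agent.Lib.Helper12.SylFi23.TBar
  Cfsg.Agent.Lib.Helper12.SylFi23.FixChk Cfsg.Agent.Lib.Helper12.SylFi23.Core
  Cfsg.Agent.Lib.Helper12.OutFi23.Transp

open scoped Pointwise

/-- the Sylow subgroup -/
noncomputable def T0 : Subgroup (PresentedGroup R) := Ttil.map iota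

/-- the normal subgroup of order `2 ^ 11` of the Sylow subgroup -/
noncomputable def A0 : Subgroup (PresentedGroup R) := D.map iota

/-- the vectors which are fixed by the involutions of the Sylow subgroup of the group of Mathieu -/
def zl : List ℕ := [0, 984, 1355, 1683]

theorem fix_all : allBelowK 2048
    (fun x => !(allBelowK 35 (fun i => testK (fx i) x)) || anyListK zl (fun q => Nat.beq q x)) = true := by
  decide +kernel

/-- the elements of the normal subgroup which commute with the Sylow subgroup -/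
theorem central_cases {d : EPres.Grp} (hd : d ∈ D) (hc : ∀ t ∈ Ttil, t * d = d * t) :
    ∃ x ∈ zl, d = theta0 (wd x) := by
  obtain ⟨x, hx, rfl⟩ := (mem_D_iff d).mp hd
  refine ⟨x, ?_, rfl⟩
  have h1 := (allBelowK_iff _ _).mp fix_all x hx
  have h2 : allBelowK 35 (fun i => testK (fx i) x) = true := by
    rw [allBelowK_iff]
    intro i hi
    rw [testK_eq]
    have hmem : el (inv i) ∈ Ttil.map psi := by
      rw [map_Ttil]
      exact el_mem _ (cls_ok i hi).1
    obtain ⟨t, ht, hpt⟩ := hmem
    apply fix_spec hi hx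
    have hinv : IsInvTable (psi t) (tbl (inv i)) := by
      rw [hpt]
      exact isInvTable_el_inv hi
    have hlt : ∀ j ∈ tbl (inv i), j < 24 := (valid_tb (cls_ok i hi).1).2.1
    exact fixed_of_comm hinv hlt x hx (hc t ht)
  rw [h2, Bool.not_true, Bool.false_or, anyListK_iff] at h1
  obtain ⟨q, hq, hqx⟩ := h1
  rw [← Nat.eq_of_beq_eq_true hqx]
  exact hq

/-- the elements of the image of the normal subgroup which commute with the image of the Sylow subgroup -/
theorem central_cases_image {a : PresentedGroup R} (ha : a ∈ A0) (hc : ∀ s ∈ T0, s * a = a * s) :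
    ∃ x ∈ zl, a = iota (theta0 (wd x)) := by
  obtain ⟨d, hd, rfl⟩ := ha
  have h : ∀ t ∈ Ttil, t * d = d * t := by
    intro t ht
    apply iota_injective
    rw [map_mul, map_mul]
    exact hc _ (Subgroup.mem_map_of_mem iota ht)
  obtain ⟨x, hx, e⟩ := central_cases hd h
  exact ⟨x, hx, by rw [← e]⟩

/-- the word of the image of a vector -/
def wx (x : ℕ) : List ℕ := (dletters x).flatMap wlet

theorem iota_theta0 (x : ℕ) : iota (theta0 (wd x)) = wprod uu (wx x) := by
  rw [theta0_wd, iota_word _ (dletters_lt x)]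
  rfl

theorem wx_lt (x : ℕ) : ∀ s ∈ wx x, s < 27 := flatMap_lt _ (dletters_lt x)

/-- the property of the 3-transpositions -/
def P3 (y : PresentedGroup R) : Prop :=
  ∀ g : PresentedGroup R, (y * (g * y * g⁻¹)) ^ 2 = 1 ∨ (y * (g * y * g⁻¹)) ^ 3 = 1

theorem P3_of_mem {y : PresentedGroup R} (hy : y ∈ conjugatesOf tt) : P3 y := by
  intro g
  have h := isThreeTranspositionClass.1.2 y hy (g * y * g⁻¹) ?_
  · exact h
  · have : IsConj tt y := hy
    have h2 : IsConj y (g * y * g⁻¹) := isConj_iff.mpr ⟨g, rfl⟩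
    exact this.trans h2

theorem P3_map (β : PresentedGroup R ≃* PresentedGroup R) {y : PresentedGroup R} (h : P3 y) : P3 (β y) := by
  intro g
  obtain ⟨g0, rfl⟩ := β.surjective g
  have e : β y * (β g0 * β y * (β g0)⁻¹) = β (y * (g0 * y * g0⁻¹)) := by
    rw [map_mul, map_mul, map_mul, map_inv]
  rw [e, ← map_pow, ← map_pow]
  rcases h g0 with h | h
  · left
    rw [h, map_one]
  · right
    rw [h, map_one]

/-- a word which is not a 3-transposition: the product with a conjugate moves a point with its square and its cube -/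
theorem not_P3_of_word (W gx : List ℕ) (hW : ∀ s ∈ W, s < 27) (hg : ∀ s ∈ gx, s < 10) (q : ℕ) (hq : q < cN)
    (h2 : Nat.beq (Fn.applyW TT ((W ++ (gx ++ (W ++ gx.reverse))) ++ (W ++ (gx ++ (W ++ gx.reverse)))) q) q = false)
    (h3 : Nat.beq (Fn.applyW TT ((W ++ (gx ++ (W ++ gx.reverse))) ++ ((W ++ (gx ++ (W ++ gx.reverse))) ++
      (W ++ (gx ++ (W ++ gx.reverse))))) q) q = false) : ¬ P3 (wprod uu W) := by
  intro h
  have hgl : ∀ s ∈ gx, s < 27 := fun s hs => lt_trans (hg s hs) (by norm_num)
  have hgr : ∀ s ∈ gx.reverse, s < 27 := fun s hs => hgl s (List.mem_reverse.mp hs)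
  have hZ : ∀ s ∈ W ++ (gx ++ (W ++ gx.reverse)), s < 27 := by
    intro s hs
    rw [List.mem_append, List.mem_append, List.mem_append] at hs
    rcases hs with hs | hs | hs | hs
    · exact hW s hs
    · exact hgl s hs
    · exact hW s hs
    · exact hgr s hs
  have ez : wprod uu W * (wprod uu gx * wprod uu W * (wprod uu gx)⁻¹) = wprod uu (W ++ (gx ++ (W ++ gx.reverse))) := by
    rw [← wprod_reverse_lt gx hg, wprod_append, wprod_append, wprod_append, mul_assoc]
  have hfix : ∀ w : List ℕ, (∀ s ∈ w, s < 27) → wprod uu w = 1 → Nat.beq (Fn.applyW TT w q) q = true := by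
    intro w hw h1
    have := act_word w hw hq
    rw [h1, act_one] at this
    rw [← this]
    exact Nat.beq_refl q
  rcases h (wprod uu gx) with h | h
  · rw [ez, pow_two, ← wprod_append] at h
    have := hfix _ (fun s hs => by
      rcases List.mem_append.mp hs with hs | hs
      · exact hZ s hs
      · exact hZ s hs) h
    rw [h2] at this
    exact Bool.noConfusion this
  · rw [ez, pow_succ, pow_two, ← wprod_append, ← wprod_append, List.append_assoc] at h
    have := hfix _ (fun s hs => by
      rcases List.mem_append.mp hs with hs | hs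
      · exact hZ s hs
      · rcases List.mem_append.mp hs with hs | hs
        · exact hZ s hs
        · exact hZ s hs) h
    rw [h3] at this
    exact Bool.noConfusion this

theorem not_P3_984 : ¬ P3 (wprod uu (wx 984)) :=
  not_P3_of_word (wx 984) [0, 7] (wx_lt 984) (by decide) 0 (by decide) (by decide +kernel) (by decide +kernel)

theorem not_P3_1683 : ¬ P3 (wprod uu (wx 1683)) :=
  not_P3_of_word (wx 1683) [0, 1] (wx_lt 1683) (by decide) 1 (by decide) (by decide +kernel) (by decide +kernel)

theorem wx_zero : wprod uu (wx 0) = 1 := by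
  have : wx 0 = [] := by decide
  rw [this, wprod_nil]

/-- the involutions of the normal subgroup which are central in the Sylow subgroup and 3-transpositions -/
theorem unique_central {a : PresentedGroup R} (ha : a ∈ A0) (hc : ∀ s ∈ T0, s * a = a * s) (h1 : a ≠ 1)
    (hP : P3 a) : a = wprod uu (wx 1355) := by
  obtain ⟨x, hx, rfl⟩ := central_cases_image ha hc
  rw [iota_theta0] at h1 hP ⊢
  simp only [zl, List.mem_cons, List.not_mem_nil, or_false] at hx
  rcases hx with rfl | rfl | rfl | rfl
  · exact absurd wx_zero h1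
  · exact absurd hP not_P3_984
  · rfl
  · exact absurd hP not_P3_1683

/-- the word of a transposition in the normal subgroup -/
def g18 : List ℕ := (wlet 18).take 26

theorem wlet18 : wlet 18 = g18 ++ 10 :: g18.reverse := by decide

theorem g18_lt : ∀ s ∈ g18, s < 10 := by decide

/-- the transposition in the normal subgroup which is central in the Sylow subgroup -/
noncomputable def c0 : PresentedGroup R := iota (EPres.v 18)

theorem c0_isT : IsT c0 (Fn.applyW TT g18 0) := by
  unfold c0
  rw [iota_letter 18 (by norm_num), wlet18]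
  exact isT_word_tt g18 g18_lt

theorem fix13 : ∀ k < 128, (tbl k).getD 13 0 = 13 := by decide +kernel

theorem c0_mem : c0 ∈ A0 := by
  refine ⟨EPres.v 18, ?_, rfl⟩
  have := dpt_mem (pt 13)
  rw [dpt_pt (show 13 < 23 by norm_num)] at this
  exact this

theorem c0_central : ∀ s ∈ T0, s * c0 = c0 * s := by
  rintro _ ⟨t, ht, rfl⟩
  unfold c0
  rw [← map_mul, ← map_mul]
  congr 1
  have h1 := Equivar.conj_dpt t (pt 13)
  have hmem : psi t ∈ Tbar := ht
  obtain ⟨k, hk, hpk⟩ := exists_of_mem hmem
  have h2 : psi t (pt 13) = pt 13 := by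
    rw [hpk]
    show fperm (tbl k) (pt 13) = pt 13
    rw [fperm_apply (valid_tb hk)]
    unfold tblFun
    rw [idx_pt (show 13 < 24 by norm_num), fix13 k hk]
  rw [h2, dpt_pt (show 13 < 23 by norm_num)] at h1
  have h3 : t * EPres.v (5 + 13) = EPres.v (5 + 13) * t := by
    have := congrArg (· * t) h1
    simp only [inv_mul_cancel_right] at this
    exact this
  exact h3

theorem nea_A0 : Transport.NEA T0 A0 := by
  apply Transport.nea_map iota iota_injective
  rw [Transport.nea_iff]
  refine ⟨D_le_Ttil, ?_, D_comm, D_sq⟩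
  intro t _ a ha
  exact D_normal.conj_mem a ha t

theorem card_A0 : Nat.card ↥A0 = 2 ^ 11 := by
  unfold A0
  rw [Transport.card_map iota iota_injective, card_D]
  norm_num

/-- every automorphism maps the central element of the subgroup to a transposition -/
theorem tt_class (β : PresentedGroup R ≃* PresentedGroup R) : β tt ∈ conjugatesOf tt := by
  have hfin : Finite (PresentedGroup R) := Fi23Order.finite
  have hp : Fact (Nat.Prime 2) := ⟨Nat.prime_two⟩
  have hc0 : Nat.card ↥T0 = 2 ^ (Nat.card (PresentedGroup R)).factorization 2 := by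
    have h1 := SylFi23.Final.factorization_card
    have h2 := SylFi23.Final.card_image
    rw [h1]
    exact h2
  have hc1 : Nat.card ↥(T0.map β.toMonoidHom) = 2 ^ (Nat.card (PresentedGroup R)).factorization 2 := by
    rw [Transport.card_map β.toMonoidHom β.injective, hc0]
  obtain ⟨g, hg⟩ := MulAction.exists_smul_eq (PresentedGroup R) (Sylow.ofCard _ hc1) (Sylow.ofCard _ hc0)
  -- the automorphism after the conjugation
  set β' : PresentedGroup R ≃* PresentedGroup R := MulAut.conj g * β with hβ'
  have happ : ∀ x, β' x = g * β x * g⁻¹ := fun x => by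
    rw [hβ', MulAut.mul_apply, MulAut.conj_apply]
  have hT : T0.map β'.toMonoidHom = T0 := by
    have h1 : MulAut.conj g • Subgroup.map β.toMonoidHom T0 = T0 := by
      have h2 : ((g • Sylow.ofCard _ hc1 : Sylow 2 (PresentedGroup R)) : Subgroup (PresentedGroup R)) =
          ((Sylow.ofCard _ hc0 : Sylow 2 (PresentedGroup R)) : Subgroup (PresentedGroup R)) := by rw [hg]
      rw [Sylow.coe_subgroup_smul, Sylow.coe_ofCard, Sylow.coe_ofCard] at h2
      exact h2
    refine Eq.trans ?_ h1
    ext x
    constructor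
    · rintro ⟨t, ht, rfl⟩
      refine (Subgroup.mem_smul_pointwise_iff_exists _ _ _).mpr ⟨β t, ⟨t, ht, rfl⟩, ?_⟩
      show MulAut.conj g (β t) = β' t
      rw [happ, MulAut.conj_apply]
    · intro hx
      obtain ⟨s, hs, rfl⟩ := (Subgroup.mem_smul_pointwise_iff_exists _ _ _).mp hx
      obtain ⟨t, ht, rfl⟩ := hs
      refine ⟨t, ht, ?_⟩
      show β' t = MulAut.conj g (β t)
      rw [happ, MulAut.conj_apply]
  -- the normal subgroup is fixed
  have hgood : Transport.Good T0 := by
    have := SylFi23.Final.good (Sylow.ofCard _ hc0)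
    rw [Sylow.coe_ofCard] at this
    exact this
  rw [Transport.good_iff] at hgood
  obtain ⟨_, A1, _, huniq⟩ := hgood
  have hA : A0.map β'.toMonoidHom = A0 := by
    have h1 := Transport.nea_map β'.toMonoidHom β'.injective nea_A0
    rw [hT] at h1
    rw [huniq _ h1 (by rw [Transport.card_map β'.toMonoidHom β'.injective, card_A0]),
      huniq _ nea_A0 card_A0]
  -- the image of the central transposition
  have hc0mem : c0 ∈ conjugatesOf tt := (mem_conjugatesOf_iff c0).mpr ⟨_, c0_isT⟩
  have e0 : c0 = wprod uu (wx 1355) :=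
    unique_central c0_mem c0_central (ne_one_of_isT c0_isT) (P3_of_mem hc0mem)
  have e1 : β' c0 = wprod uu (wx 1355) := by
    apply unique_central
    · rw [← hA]
      exact Subgroup.mem_map_of_mem _ c0_mem
    · intro s hs
      rw [← hT] at hs
      obtain ⟨s0, hs0, rfl⟩ := hs
      show β' s0 * β' c0 = β' c0 * β' s0
      rw [← map_mul, ← map_mul, c0_central s0 hs0]
    · intro h
      apply ne_one_of_isT c0_isT
      apply β'.injective
      rw [h, map_one]
    · exact P3_map β' (P3_of_mem hc0mem)
  have e2 : g * β c0 * g⁻¹ = c0 := by rw [← happ, e1, ← e0]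
  have e3 : β c0 = g⁻¹ * c0 * g⁻¹⁻¹ := by
    have h : g⁻¹ * (g * β c0 * g⁻¹) * g⁻¹⁻¹ = β c0 := by group
    rw [e2] at h
    exact h.symm
  obtain ⟨k, hk, _⟩ := c0_isT
  have e4 : tt = k⁻¹ * c0 * k⁻¹⁻¹ := by
    rw [hk]
    group
  rw [mem_conjugatesOf_iff]
  have h5 := isT_conj c0_isT g⁻¹
  rw [← e3] at h5
  have h6 := isT_conj h5 (β k⁻¹)
  have e5 : β tt = β k⁻¹ * β c0 * (β k⁻¹)⁻¹ := by
    rw [e4, map_mul, map_mul, map_inv β k⁻¹]
  rw [← e5] at h6
  exact ⟨_, h6⟩

end Cfsg.Agent.Lib.Helper12.OutFi23.Central
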