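import Cfsg.Agent.Lib.Helper12.OutFi23.CertData

/-!
A part of the check of the certificate of the step 2 of the chain for the presented group Fi23 (generated, helper12).
-/

set_option autoImplicit false
set_option maxRecDepth 100000

namespace Cfsg.Agent.Lib.Helper12.OutFi23.CertChk2

open Cfsg.Spor Cfsg.Agent.Lib.Helper12.TC Cfsg.Agent.Lib.Helper12.TC.Fi23o31671
  Cfsg.Agent.Lib.Helper12.TC.Fi23Pres Cfsg.Agent.Lib.Helper12.Ord
  Cfsg.Agent.Lib.Helper12.Ord.Fi23Simple Cfsg.Agent.Lib.Helper12.Ord.Fi23Transp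
  Cfsg.Agent.Lib.Helper12.SylFi23.Base Cfsg.Agent.Lib.Helper12.OutFi23.Transp
  Cfsg.Agent.Lib.Helper12.OutFi23.Cert
  Cfsg.Agent.Lib.Helper12.OutFi23.CertData

theorem chk : allBelowK 31671 (fun p => chkStep [2, 3] 4 gw2 (dt 1) p) = true := by
  decide +kernel

end Cfsg.Agent.Lib.Helper12.OutFi23.CertChk2
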