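import Cfsg.Agent.Lib.Helper12.OutFi23.FinalData

/-!
The last step of the chain for the presented group Fi23: an automorphism which preserves the class of the transpositions
and fixes the first five generators of the chain is the conjugation by an element of the stabiliser of their points
(helper12).
-/

set_option autoImplicit false
set_option maxRecDepth 100000

namespace Cfsg.Agent.Lib.Helper12.OutFi23.Final

open Cfsg.Spor Cfsg.Agent.Lib.Helper12.TC Cfsg.Agent.Lib.Helper12.TC.Fi23o31671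
  Cfsg.Agent.Lib.Helper12.TC.Fi23Pres Cfsg.Agent.Lib.Helper12.Ord
  Cfsg.Agent.Lib.Helper12.Ord.Fi23Simple Cfsg.Agent.Lib.Helper12.Ord.Fi23Transp
  Cfsg.Agent.Lib.Helper12.SylFi23.Base Cfsg.Agent.Lib.Helper12.OutFi23.Transp
  Cfsg.Agent.Lib.Helper12.OutFi23.Cert Cfsg.Agent.Lib.Helper12.OutFi23.FinalData

theorem isT_word' (w : List ℕ) (hw : ∀ s ∈ w, s < 10) {k : ℕ} (hk : k < 11) :
    IsT (wprod uu (w ++ k :: w.reverse)) (Fn.applyW TT w (qp k)) := by
  rcases Nat.lt_succ_iff_lt_or_eq.mp hk with h | rfl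
  · exact isT_word w hw h
  · exact isT_word_tt w hw

theorem dw_isT {p : ℕ} (hp : p ∈ L5 ++ (L0 ++ (L9 ++ L6))) :
    IsT (wprod uu (dw p)) p ∧ ∀ s ∈ dw p, s < 27 := by
  obtain ⟨e, he, rfl⟩ := lists_sub p hp
  obtain ⟨h1, h2, h3, h4⟩ := dw_ok e he
  rw [h3]
  constructor
  · have := isT_word' e.2.2 h1 h2
    rw [h4] at this
    exact this
  · intro s hs
    rw [List.mem_append, List.mem_cons, List.mem_reverse] at hs
    rcases hs with hs | rfl | hs
    · exact lt_trans (h1 s hs) (by norm_num)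
    · exact lt_trans h2 (by norm_num)
    · exact lt_trans (h1 s hs) (by norm_num)

/-- the relations of two generators and of the points of their images -/
theorem pair_ok (β : PresentedGroup R ≃* PresentedGroup R) {n m : ℕ} (hn : n < 10) (hm : m < 10) {pn pm : ℕ}
    (hTm : IsT (β (uu m)) pm) (hd : β (uu n) = wprod uu (dw pn)) (hlt : ∀ s ∈ dw pn, s < 27) :
    (fixK pn pm == expK n m) = true := by
  apply bool_eq_of_iff
  unfold fixK expK
  have hpm := isT_lt hTm
  rw [TT_eq_iff hn (qp_lt m hm), ← comm_iff (isT_gen hm), ← comm_gen_iff β n m, comm_iff hTm, hd,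
    act_word _ hlt hpm]
  exact ⟨Nat.eq_of_beq_eq_true, fun h => by rw [h]; exact Nat.beq_refl _⟩

theorem map_wprod (β : PresentedGroup R ≃* PresentedGroup R) (w : List ℕ) :
    wprod (fun k => β (uu k)) w = β (wprod uu w) := by
  induction w with
  | nil => rw [wprod_nil, wprod_nil, map_one]
  | cons s l ih => rw [wprod_cons, wprod_cons, map_mul, ih]

theorem wprod_flatMap (sb : ℕ → List ℕ) (b : List ℕ) :
    wprod (fun s => wprod uu (sb s)) b = wprod uu (b.flatMap sb) := by
  induction b with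
  | nil => rfl
  | cons s l ih => rw [wprod_cons, List.flatMap_cons, wprod_append, ih]

theorem ext2_mem : ∀ s ∈ ext2, s = 0 ∨ s = 1 ∨ s = 2 ∨ s = 3 ∨ s = 4 ∨ s = 5 ∨ s = 8 := by decide

theorem tp_lt : tp < cN := by decide

/-- the relator of the images of the generators fixes the test point -/
theorem w2_ok (β : PresentedGroup R ≃* PresentedGroup R) (hfix : ∀ k ∈ S5, β (uu k) = uu k) {p5 p0 : ℕ}
    (hd5 : β (uu 5) = wprod uu (dw p5)) (hd0 : β (uu 0) = wprod uu (dw p0))
    (hl5 : ∀ s ∈ dw p5, s < 27) (hl0 : ∀ s ∈ dw p0, s < 27) : w2ok p5 p0 = true := by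
  have h1 : wprod (fun k => β (uu k)) ext2 = 1 := by rw [map_wprod, ext2_one, map_one]
  have hone : ∀ k : ℕ, wprod uu [k] = uu k := by
    intro k
    rw [wprod_cons, wprod_nil, mul_one]
  have h2 : wprod (fun k => β (uu k)) ext2 = wprod (fun k => wprod uu (sub p5 p0 k)) ext2 := by
    apply Fn.wprod_congr
    intro s hs
    rcases ext2_mem s hs with rfl | rfl | rfl | rfl | rfl | rfl | rfl
    · exact hd0
    · exact (hfix 1 (by decide)).trans (hone 1).symm
    · exact (hfix 2 (by decide)).trans (hone 2).symm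
    · exact (hfix 3 (by decide)).trans (hone 3).symm
    · exact (hfix 4 (by decide)).trans (hone 4).symm
    · exact hd5
    · exact (hfix 8 (by decide)).trans (hone 8).symm
  have hlt : ∀ s ∈ ext2.flatMap (sub p5 p0), s < 27 := by
    intro s hs
    rw [List.mem_flatMap] at hs
    obtain ⟨k, hk, hsk⟩ := hs
    rcases ext2_mem k hk with rfl | rfl | rfl | rfl | rfl | rfl | rfl
    · exact hl0 s hsk
    · rw [List.mem_singleton.mp hsk]; norm_num
    · rw [List.mem_singleton.mp hsk]; norm_num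
    · rw [List.mem_singleton.mp hsk]; norm_num
    · rw [List.mem_singleton.mp hsk]; norm_num
    · exact hl5 s hsk
    · rw [List.mem_singleton.mp hsk]; norm_num
  rw [h2, wprod_flatMap] at h1
  have h3 := act_word _ hlt tp_lt
  rw [h1, act_one] at h3
  unfold w2ok
  rw [← h3]
  exact Nat.beq_refl _

theorem h10 : ∀ k ∈ S5, k < 10 := by decide

theorem hne5 : ∀ k ∈ S5, qp k ≠ qp 5 := by decide
theorem hne0 : ∀ k ∈ S5, qp k ≠ qp 0 := by decide
theorem hne9 : ∀ k ∈ S5, qp k ≠ qp 9 := by decide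
theorem hne6 : ∀ k ∈ S5, qp k ≠ qp 6 := by decide
theorem hne7 : ∀ k ∈ S5, qp k ≠ qp 7 := by decide

theorem mem_of_scan {n : ℕ} {L : List ℕ} (hscan : allBelowK cN (fun p => !(cand S5 n p) || memK L p) = true)
    {p : ℕ} (hp : p < cN) (hc : cand S5 n p = true) : p ∈ L := by
  have := (allBelowK_iff _ _).mp hscan p hp
  rw [hc, Bool.not_true, Bool.false_or] at this
  exact (memK_iff _ _).mp this

/-- the last step -/
theorem final (hQ : Q [7, 6, 9, 0, 5, 8, 1, 4, 2, 3]) : Q S5 := by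
  intro β hP hfix
  have hS : ∀ k ∈ S5, k < 10 ∧ β (uu k) = uu k := fun k hk => ⟨h10 k hk, hfix k hk⟩
  obtain ⟨p5, h5⟩ := hP _ _ (isT_gen (show 5 < 10 by norm_num))
  obtain ⟨p0, h0⟩ := hP _ _ (isT_gen (show 0 < 10 by norm_num))
  obtain ⟨p9, h9⟩ := hP _ _ (isT_gen (show 9 < 10 by norm_num))
  obtain ⟨p6, h6⟩ := hP _ _ (isT_gen (show 6 < 10 by norm_num))
  obtain ⟨p7, h7⟩ := hP _ _ (isT_gen (show 7 < 10 by norm_num))
  have m5 : p5 ∈ L5 := mem_of_scan scan5 (isT_lt h5) (cand_of_fix β S5 hS (by norm_num) hne5 h5)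
  have m0 : p0 ∈ L0 := mem_of_scan scan0 (isT_lt h0) (cand_of_fix β S5 hS (by norm_num) hne0 h0)
  have m9 : p9 ∈ L9 := mem_of_scan scan9 (isT_lt h9) (cand_of_fix β S5 hS (by norm_num) hne9 h9)
  have m6 : p6 ∈ L6 := mem_of_scan scan6 (isT_lt h6) (cand_of_fix β S5 hS (by norm_num) hne6 h6)
  have m7 : p7 ∈ L6 := mem_of_scan scan7 (isT_lt h7) (cand_of_fix β S5 hS (by norm_num) hne7 h7)
  obtain ⟨t5, l5⟩ := dw_isT (List.mem_append_left _ m5)
  obtain ⟨t0, l0⟩ := dw_isT (List.mem_append_right _ (List.mem_append_left _ m0))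
  obtain ⟨t9, l9⟩ := dw_isT (List.mem_append_right _ (List.mem_append_right _ (List.mem_append_left _ m9)))
  obtain ⟨t6, l6⟩ := dw_isT (List.mem_append_right _ (List.mem_append_right _ (List.mem_append_right _ m6)))
  have hd5 : β (uu 5) = wprod uu (dw p5) := elt_unique h5 t5
  have hd0 : β (uu 0) = wprod uu (dw p0) := elt_unique h0 t0
  have hd9 : β (uu 9) = wprod uu (dw p9) := elt_unique h9 t9
  have hd6 : β (uu 6) = wprod uu (dw p6) := elt_unique h6 t6
  have hF := final_ok
  unfold finalChk at hF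
  have f1 := (allListK_iff _ _).mp ((allListK_iff _ _).mp hF p5 m5) p0 m0
  beta_reduce at f1
  rw [pair_ok β (n := 5) (m := 0) (by norm_num) (by norm_num) h0 hd5 l5, w2_ok β hfix hd5 hd0 l5 l0,
    Bool.not_true, Bool.false_or, Bool.false_or] at f1
  have f2 := (allListK_iff _ _).mp f1 p9 m9
  beta_reduce at f2
  rw [pair_ok β (n := 5) (m := 9) (by norm_num) (by norm_num) h9 hd5 l5,
    pair_ok β (n := 0) (m := 9) (by norm_num) (by norm_num) h9 hd0 l0,
    Bool.not_true, Bool.false_or, Bool.false_or] at f2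
  have f3 := (allListK_iff _ _).mp f2 p6 m6
  beta_reduce at f3
  rw [pair_ok β (n := 5) (m := 6) (by norm_num) (by norm_num) h6 hd5 l5,
    pair_ok β (n := 0) (m := 6) (by norm_num) (by norm_num) h6 hd0 l0,
    pair_ok β (n := 9) (m := 6) (by norm_num) (by norm_num) h6 hd9 l9,
    Bool.not_true, Bool.false_or, Bool.false_or, Bool.false_or] at f3
  have f4 := (allListK_iff _ _).mp f3 p7 m7
  beta_reduce at f4
  rw [pair_ok β (n := 5) (m := 7) (by norm_num) (by norm_num) h7 hd5 l5,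
    pair_ok β (n := 0) (m := 7) (by norm_num) (by norm_num) h7 hd0 l0,
    pair_ok β (n := 9) (m := 7) (by norm_num) (by norm_num) h7 hd9 l9,
    pair_ok β (n := 6) (m := 7) (by norm_num) (by norm_num) h7 hd6 l6,
    Bool.not_true, Bool.false_or, Bool.false_or, Bool.false_or, Bool.false_or] at f4
  unfold tupMem at f4
  obtain ⟨e, he, hm⟩ := (anyListK_iff _ _).mp f4
  simp only [Bool.and_eq_true] at hm
  obtain ⟨e1, e2, e3, e4, e5⟩ := hm
  have e1 := Nat.eq_of_beq_eq_true e1
  have e2 := Nat.eq_of_beq_eq_true e2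
  have e3 := Nat.eq_of_beq_eq_true e3
  have e4 := Nat.eq_of_beq_eq_true e4
  have e5 := Nat.eq_of_beq_eq_true e5
  obtain ⟨hw, hfixS, g5, g0, g9, g6, g7⟩ := tup_ok e he
  apply reduce β hP (wprod uu e.2.2.2.2.2) [7, 6, 9, 0, 5, 8, 1, 4, 2, 3] _ hQ
  intro k hk
  simp only [List.mem_cons, List.not_mem_nil, or_false] at hk
  rcases hk with rfl | rfl | rfl | rfl | rfl | rfl | rfl | rfl | rfl | rfl
  · refine ⟨by norm_num, ?_⟩
    rw [act_word _ hw (qp_lt 7 (by norm_num)), g7, e5]
    exact h7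
  · refine ⟨by norm_num, ?_⟩
    rw [act_word _ hw (qp_lt 6 (by norm_num)), g6, e4]
    exact h6
  · refine ⟨by norm_num, ?_⟩
    rw [act_word _ hw (qp_lt 9 (by norm_num)), g9, e3]
    exact h9
  · refine ⟨by norm_num, ?_⟩
    rw [act_word _ hw (qp_lt 0 (by norm_num)), g0, e2]
    exact h0
  · refine ⟨by norm_num, ?_⟩
    rw [act_word _ hw (qp_lt 5 (by norm_num)), g5, e1]
    exact h5
  · refine ⟨by norm_num, ?_⟩
    rw [act_word _ hw (qp_lt 8 (by norm_num)), hfixS 8 (by decide), hfix 8 (by decide)]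
    exact isT_gen (by norm_num)
  · refine ⟨by norm_num, ?_⟩
    rw [act_word _ hw (qp_lt 1 (by norm_num)), hfixS 1 (by decide), hfix 1 (by decide)]
    exact isT_gen (by norm_num)
  · refine ⟨by norm_num, ?_⟩
    rw [act_word _ hw (qp_lt 4 (by norm_num)), hfixS 4 (by decide), hfix 4 (by decide)]
    exact isT_gen (by norm_num)
  · refine ⟨by norm_num, ?_⟩
    rw [act_word _ hw (qp_lt 2 (by norm_num)), hfixS 2 (by decide), hfix 2 (by decide)]
    exact isT_gen (by norm_num)
  · refine ⟨by norm_num, ?_⟩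
    rw [act_word _ hw (qp_lt 3 (by norm_num)), hfixS 3 (by decide), hfix 3 (by decide)]
    exact isT_gen (by norm_num)

end Cfsg.Agent.Lib.Helper12.OutFi23.Final
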