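import Cfsg.Agent.Lib.Helper12.OutFi23.Cert

/-!
The data and the checks of the last step of the chain for the presented group Fi23: the candidates for the points of the
images of the last five generators, the words of their transpositions, and the orbit of the stabiliser of the first five
points on the tuples which satisfy the relations (generated, helper12).
-/

set_option autoImplicit false
set_option maxRecDepth 100000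

namespace Cfsg.Agent.Lib.Helper12.OutFi23.FinalData

open Cfsg.Spor Cfsg.Agent.Lib.Helper12.TC Cfsg.Agent.Lib.Helper12.TC.Fi23o31671
  Cfsg.Agent.Lib.Helper12.TC.Fi23Pres Cfsg.Agent.Lib.Helper12.Ord
  Cfsg.Agent.Lib.Helper12.Ord.Fi23Simple Cfsg.Agent.Lib.Helper12.Ord.Fi23Transp
  Cfsg.Agent.Lib.Helper12.SylFi23.Base Cfsg.Agent.Lib.Helper12.OutFi23.Transp
  Cfsg.Agent.Lib.Helper12.OutFi23.Cert

/-- the first five generators of the chain -/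
def S5 : List ℕ := [8, 1, 4, 2, 3]

/-- the candidates for the point of the image of the generator `5` -/
def L5 : List ℕ := [3, 312, 786, 1837, 3487, 3539, 28456, 28590, 29415, 29626, 29690, 29692, 29699, 29984]
/-- the candidates for the point of the image of the generator `0` -/
def L0 : List ℕ := [25, 36, 379, 525, 28161, 28327, 28786, 30560]
/-- the candidates for the point of the image of the generator `9` -/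
def L9 : List ℕ := [11, 65, 95, 184, 263, 1558, 28192, 28216, 28218, 28257, 28841, 28963, 29064, 29988]
/-- the candidates for the points of the images of the generators `6` and `7` -/
def L6 : List ℕ := [0, 1, 2, 4349, 5385, 28759, 29987]

/-- the points of the lists with a generator `k` and a word `w` which maps the point of `k` to the point -/
def dwL : List (ℕ × ℕ × List ℕ) := [
   (0, 10, []),
   (1, 10, [7]),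
   (2, 10, [6, 7]),
   (3, 10, [5, 6, 7]),
   (11, 10, [0, 1, 2, 3, 4, 5, 6, 7]),
   (25, 10, [5, 4, 3, 8, 2, 3, 4, 5, 6, 7]),
   (36, 10, [6, 5, 4, 3, 8, 2, 3, 4, 5, 6, 7]),
   (65, 10, [8, 3, 4, 2, 3, 8, 1, 2, 3, 4, 5, 6, 7]),
   (95, 10, [9, 8, 3, 4, 2, 3, 8, 1, 2, 3, 4, 5, 6, 7]),
   (184, 1, [8, 3, 4, 2, 3, 8, 7, 6, 5, 4, 3, 2]),
   (263, 1, [9, 8, 3, 4, 2, 3, 8, 7, 6, 5, 4, 3, 2]),
   (312, 10, [4, 3, 8, 2, 3, 4, 1, 2, 3, 8, 0, 1, 2, 3, 4, 5, 6, 7]),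
   (379, 2, [6, 5, 4, 3, 8, 7, 6, 5, 4, 3]),
   (525, 2, [5, 4, 3, 8, 7, 6, 5, 4, 3]),
   (786, 0, [4, 3, 8, 2, 3, 4, 1, 2, 3, 8, 7, 6, 5, 4, 3, 2, 1]),
   (1558, 0, [7, 6, 5, 4, 3, 2, 1]),
   (1837, 10, [0, 1, 2, 3, 8, 9, 4, 3, 8, 2, 3, 4, 1, 2, 3, 8, 0, 1, 2, 3, 4, 5, 6, 7]),
   (3487, 5, [7, 6]),
   (3539, 1, [7, 6, 5, 4, 3, 8, 9, 2, 3, 8, 4, 3, 2]),
   (4349, 6, [7]),
   (5385, 7, []),
   (28161, 10, [7, 6, 5, 4, 3, 8, 2, 3, 4, 5, 6, 7]),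
   (28192, 1, [8, 3, 4, 2, 3, 8, 6, 5, 4, 3, 2]),
   (28216, 1, [8, 3, 4, 2, 3, 8, 5, 4, 3, 2]),
   (28218, 1, [9, 8, 3, 4, 2, 3, 8, 6, 5, 4, 3, 2]),
   (28257, 1, [9, 8, 3, 4, 2, 3, 8, 5, 4, 3, 2]),
   (28327, 2, [5, 4, 3, 8, 6, 5, 4, 3]),
   (28456, 0, [4, 3, 8, 2, 3, 4, 1, 2, 3, 8, 6, 5, 4, 3, 2, 1]),
   (28590, 0, [4, 3, 8, 2, 3, 4, 1, 2, 3, 8, 5, 4, 3, 2, 1]),
   (28759, 0, [5, 4, 3, 8, 2, 3, 4, 1, 2, 3, 8, 5, 4, 3, 2, 1]),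
   (28786, 0, [1, 2, 3, 8, 4, 3, 2, 1]),
   (28841, 0, [6, 5, 4, 3, 2, 1]),
   (28963, 0, [8, 3, 4, 2, 3, 8, 9, 1, 2, 3, 8, 4, 3, 2, 1]),
   (29064, 0, [5, 4, 3, 2, 1]),
   (29415, 1, [4, 3, 8, 9, 2, 3, 8, 4, 3, 2]),
   (29626, 0, [9, 8, 3, 2, 1]),
   (29690, 1, [5, 4, 3, 8, 9, 2, 3, 8, 4, 3, 2]),
   (29692, 5, [6]),
   (29699, 1, [6, 5, 4, 3, 8, 9, 2, 3, 8, 4, 3, 2]),
   (29984, 5, []),
   (29987, 6, []),
   (29988, 9, []),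
   (30560, 0, [])]

/-- the word of the transposition of a point of the lists -/
def dw (p : ℕ) : List ℕ :=
  @List.rec (ℕ × ℕ × List ℕ) (fun _ => List ℕ) []
    (fun e _ ih => cond (Nat.beq e.1 p) (e.2.2 ++ e.2.1 :: e.2.2.reverse) ih) dwL

/-- the test of the membership in a list -/
def memK (L : List ℕ) (p : ℕ) : Bool := anyListK L (fun q => Nat.beq q p)

theorem memK_iff (L : List ℕ) (p : ℕ) : memK L p = true ↔ p ∈ L := by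
  unfold memK
  rw [anyListK_iff]
  constructor
  · rintro ⟨q, hq, h⟩
    rw [← Nat.eq_of_beq_eq_true h]
    exact hq
  · intro h
    exact ⟨p, h, Nat.beq_refl p⟩

theorem dw_ok : ∀ e ∈ dwL, (∀ s ∈ e.2.2, s < 10) ∧ e.2.1 < 11 ∧ dw e.1 = e.2.2 ++ e.2.1 :: e.2.2.reverse ∧
    Fn.applyW TT e.2.2 (qp e.2.1) = e.1 := by
  decide +kernel

theorem lists_sub : ∀ p ∈ L5 ++ (L0 ++ (L9 ++ L6)), ∃ e ∈ dwL, e.1 = p := by decide +kernel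

/-- the transposition of the first point fixes the second point -/
noncomputable def fixK (p q : ℕ) : Bool := Nat.beq (Fn.applyW TT (dw p) q) q

/-- the generator `n` fixes the point of the generator `m` -/
noncomputable def expK (n m : ℕ) : Bool := Nat.beq (TT n (qp m)) (qp m)

/-- the word of the second further relator -/
def ext2 : List ℕ := [0, 1, 2, 3, 4, 5, 8, 0, 1, 2, 3, 4, 5, 8, 0, 1, 2, 3, 4, 5, 8, 0, 1, 2, 3, 4, 5, 8, 0, 1, 2, 3, 4, 5, 8, 0, 1, 2, 3, 4, 5, 8, 0, 1, 2, 3, 4, 5, 8, 0, 1, 2, 3, 4, 5, 8, 0, 1, 2, 3, 4, 5, 8]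

/-- the test point of the relator -/
def tp : ℕ := 1974

/-- the substitution of the words of the transpositions for the letters `5` and `0` -/
def sub (p5 p0 k : ℕ) : List ℕ := cond (Nat.beq k 5) (dw p5) (cond (Nat.beq k 0) (dw p0) [k])

/-- the relator fixes the test point -/
noncomputable def w2ok (p5 p0 : ℕ) : Bool := Nat.beq (Fn.applyW TT (ext2.flatMap (sub p5 p0)) tp) tp

/-- the tuples of the orbit with words of elements of the stabiliser -/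
def tupL : List (ℕ × ℕ × ℕ × ℕ × ℕ × List ℕ) := [
   (3, 30560, 29988, 0, 4349, [7, 10, 7, 6, 7]),
   (3, 30560, 29988, 0, 5385, [6, 7, 10, 7, 6, 7]),
   (3, 30560, 29988, 1, 5385, [6, 7, 10, 7, 6]),
   (3, 30560, 29988, 1, 29987, [6, 10, 7, 6]),
   (3, 30560, 29988, 2, 4349, [7, 10, 7, 6]),
   (3, 30560, 29988, 2, 29987, [10, 7, 6]),
   (312, 30560, 28963, 0, 4349, [5, 4, 3, 8, 2, 3, 4, 1, 2, 3, 8, 5, 4, 3, 2, 1, 0, 1, 2, 3, 4, 5, 8, 3, 2, 1, 4, 3, 2, 8, 3, 4, 5, 7, 10, 7, 6, 7]),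
   (312, 30560, 28963, 0, 5385, [5, 4, 3, 8, 2, 3, 4, 1, 2, 3, 8, 5, 4, 3, 2, 1, 0, 1, 2, 3, 4, 5, 8, 3, 2, 1, 4, 3, 2, 8, 3, 4, 5, 6, 7, 10, 7, 6, 7]),
   (312, 30560, 28963, 1, 5385, [5, 4, 3, 8, 2, 3, 4, 1, 2, 3, 8, 5, 4, 3, 2, 1, 0, 1, 2, 3, 4, 5, 8, 3, 2, 1, 4, 3, 2, 8, 3, 4, 5, 6, 7, 10, 7, 6]),
   (312, 30560, 28963, 1, 29987, [5, 4, 3, 8, 2, 3, 4, 1, 2, 3, 8, 5, 4, 3, 2, 1, 0, 1, 2, 3, 4, 5, 8, 3, 2, 1, 4, 3, 2, 8, 3, 4, 5, 6, 10, 7, 6]),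
   (312, 30560, 28963, 2, 4349, [5, 4, 3, 8, 2, 3, 4, 1, 2, 3, 8, 5, 4, 3, 2, 1, 0, 1, 2, 3, 4, 5, 8, 3, 2, 1, 4, 3, 2, 8, 3, 4, 5, 7, 10, 7, 6]),
   (312, 30560, 28963, 2, 29987, [5, 4, 3, 8, 2, 3, 4, 1, 2, 3, 8, 5, 4, 3, 2, 1, 0, 1, 2, 3, 4, 5, 8, 3, 2, 1, 4, 3, 2, 8, 3, 4, 5, 10, 7, 6]),
   (786, 30560, 28963, 0, 1, [5, 4, 3, 8, 2, 3, 4, 1, 2, 3, 8, 5, 4, 3, 2, 1, 0, 1, 2, 3, 4, 5, 8, 3, 2, 1, 4, 3, 2, 8, 3, 4, 5, 7, 6, 7, 10, 7]),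
   (786, 30560, 28963, 0, 2, [5, 4, 3, 8, 2, 3, 4, 1, 2, 3, 8, 5, 4, 3, 2, 1, 0, 1, 2, 3, 4, 5, 8, 3, 2, 1, 4, 3, 2, 8, 3, 4, 5, 7, 10, 6, 7]),
   (786, 30560, 28963, 4349, 2, [5, 4, 3, 8, 2, 3, 4, 1, 2, 3, 8, 5, 4, 3, 2, 1, 0, 1, 2, 3, 4, 5, 8, 3, 2, 1, 4, 3, 2, 8, 3, 4, 5, 7, 10, 6]),
   (786, 30560, 28963, 4349, 29987, [5, 4, 3, 8, 2, 3, 4, 1, 2, 3, 8, 5, 4, 3, 2, 1, 0, 1, 2, 3, 4, 5, 8, 3, 2, 1, 4, 3, 2, 8, 3, 4, 5, 7, 6]),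
   (786, 30560, 28963, 5385, 1, [5, 4, 3, 8, 2, 3, 4, 1, 2, 3, 8, 5, 4, 3, 2, 1, 0, 1, 2, 3, 4, 5, 8, 3, 2, 1, 4, 3, 2, 8, 3, 4, 5, 7, 6, 7, 10]),
   (786, 30560, 28963, 5385, 29987, [5, 4, 3, 8, 2, 3, 4, 1, 2, 3, 8, 5, 4, 3, 2, 1, 0, 1, 2, 3, 4, 5, 8, 3, 2, 1, 4, 3, 2, 8, 3, 4, 5, 7, 6, 7]),
   (3487, 30560, 29988, 0, 1, [7, 6, 7, 10, 7]),
   (3487, 30560, 29988, 0, 2, [7, 10, 6, 7]),
   (3487, 30560, 29988, 4349, 2, [7, 10, 6]),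
   (3487, 30560, 29988, 4349, 29987, [7, 6]),
   (3487, 30560, 29988, 5385, 1, [7, 6, 7, 10]),
   (3487, 30560, 29988, 5385, 29987, [7, 6, 7]),
   (28456, 30560, 28963, 1, 0, [5, 4, 3, 8, 2, 3, 4, 1, 2, 3, 8, 5, 4, 3, 2, 1, 0, 1, 2, 3, 4, 5, 8, 3, 2, 1, 4, 3, 2, 8, 3, 4, 5, 10, 6, 7, 10]),
   (28456, 30560, 28963, 1, 2, [5, 4, 3, 8, 2, 3, 4, 1, 2, 3, 8, 5, 4, 3, 2, 1, 0, 1, 2, 3, 4, 5, 8, 3, 2, 1, 4, 3, 2, 8, 3, 4, 5, 10, 6, 7]),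
   (28456, 30560, 28963, 5385, 0, [5, 4, 3, 8, 2, 3, 4, 1, 2, 3, 8, 5, 4, 3, 2, 1, 0, 1, 2, 3, 4, 5, 8, 3, 2, 1, 4, 3, 2, 8, 3, 4, 5, 6, 7, 10]),
   (28456, 30560, 28963, 5385, 4349, [5, 4, 3, 8, 2, 3, 4, 1, 2, 3, 8, 5, 4, 3, 2, 1, 0, 1, 2, 3, 4, 5, 8, 3, 2, 1, 4, 3, 2, 8, 3, 4, 5, 6, 7]),
   (28456, 30560, 28963, 29987, 2, [5, 4, 3, 8, 2, 3, 4, 1, 2, 3, 8, 5, 4, 3, 2, 1, 0, 1, 2, 3, 4, 5, 8, 3, 2, 1, 4, 3, 2, 8, 3, 4, 5, 10, 6]),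
   (28456, 30560, 28963, 29987, 4349, [5, 4, 3, 8, 2, 3, 4, 1, 2, 3, 8, 5, 4, 3, 2, 1, 0, 1, 2, 3, 4, 5, 8, 3, 2, 1, 4, 3, 2, 8, 3, 4, 5, 6]),
   (28590, 30560, 28963, 2, 0, [5, 4, 3, 8, 2, 3, 4, 1, 2, 3, 8, 5, 4, 3, 2, 1, 0, 1, 2, 3, 4, 5, 8, 3, 2, 1, 4, 3, 2, 8, 3, 4, 5, 7, 10, 7]),
   (28590, 30560, 28963, 2, 1, [5, 4, 3, 8, 2, 3, 4, 1, 2, 3, 8, 5, 4, 3, 2, 1, 0, 1, 2, 3, 4, 5, 8, 3, 2, 1, 4, 3, 2, 8, 3, 4, 5, 10, 7]),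
   (28590, 30560, 28963, 4349, 0, [5, 4, 3, 8, 2, 3, 4, 1, 2, 3, 8, 5, 4, 3, 2, 1, 0, 1, 2, 3, 4, 5, 8, 3, 2, 1, 4, 3, 2, 8, 3, 4, 5, 7, 10]),
   (28590, 30560, 28963, 4349, 5385, [5, 4, 3, 8, 2, 3, 4, 1, 2, 3, 8, 5, 4, 3, 2, 1, 0, 1, 2, 3, 4, 5, 8, 3, 2, 1, 4, 3, 2, 8, 3, 4, 5, 7]),
   (28590, 30560, 28963, 29987, 1, [5, 4, 3, 8, 2, 3, 4, 1, 2, 3, 8, 5, 4, 3, 2, 1, 0, 1, 2, 3, 4, 5, 8, 3, 2, 1, 4, 3, 2, 8, 3, 4, 5, 10]),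
   (28590, 30560, 28963, 29987, 5385, [5, 4, 3, 8, 2, 3, 4, 1, 2, 3, 8, 5, 4, 3, 2, 1, 0, 1, 2, 3, 4, 5, 8, 3, 2, 1, 4, 3, 2, 8, 3, 4, 5]),
   (29692, 30560, 29988, 1, 0, [10, 6, 7, 10]),
   (29692, 30560, 29988, 1, 2, [10, 6, 7]),
   (29692, 30560, 29988, 5385, 0, [6, 7, 10]),
   (29692, 30560, 29988, 5385, 4349, [6, 7]),
   (29692, 30560, 29988, 29987, 2, [10, 6]),
   (29692, 30560, 29988, 29987, 4349, [6]),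
   (29984, 30560, 29988, 2, 0, [7, 10, 7]),
   (29984, 30560, 29988, 2, 1, [10, 7]),
   (29984, 30560, 29988, 4349, 0, [7, 10]),
   (29984, 30560, 29988, 4349, 5385, [7]),
   (29984, 30560, 29988, 29987, 1, [10]),
   (29984, 30560, 29988, 29987, 5385, [])]

/-- the test of the membership in the orbit -/
def tupMem (p5 p0 p9 p6 p7 : ℕ) : Bool :=
  anyListK tupL (fun e => Nat.beq e.1 p5 && (Nat.beq e.2.1 p0 && (Nat.beq e.2.2.1 p9 &&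
    (Nat.beq e.2.2.2.1 p6 && Nat.beq e.2.2.2.2.1 p7))))

/-- the tuples of candidates which satisfy the relations are in the orbit -/
noncomputable def finalChk : Bool :=
  allListK L5 fun p5 => allListK L0 fun p0 =>
    !(fixK p5 p0 == expK 5 0) || (!(w2ok p5 p0) ||
    allListK L9 fun p9 =>
      !(fixK p5 p9 == expK 5 9) || (!(fixK p0 p9 == expK 0 9) ||
      allListK L6 fun p6 =>
        !(fixK p5 p6 == expK 5 6) || (!(fixK p0 p6 == expK 0 6) || (!(fixK p9 p6 == expK 9 6) ||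
        allListK L6 fun p7 =>
          !(fixK p5 p7 == expK 5 7) || (!(fixK p0 p7 == expK 0 7) || (!(fixK p9 p7 == expK 9 7) ||
          (!(fixK p6 p7 == expK 6 7) || tupMem p5 p0 p9 p6 p7)))))))

theorem final_ok : finalChk = true := by decide +kernel

theorem tup_ok : ∀ e ∈ tupL, (∀ s ∈ e.2.2.2.2.2, s < 27) ∧
    (∀ k ∈ S5, Fn.applyW TT e.2.2.2.2.2 (qp k) = qp k) ∧
    Fn.applyW TT e.2.2.2.2.2 (qp 5) = e.1 ∧ Fn.applyW TT e.2.2.2.2.2 (qp 0) = e.2.1 ∧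
    Fn.applyW TT e.2.2.2.2.2 (qp 9) = e.2.2.1 ∧ Fn.applyW TT e.2.2.2.2.2 (qp 6) = e.2.2.2.1 ∧
    Fn.applyW TT e.2.2.2.2.2 (qp 7) = e.2.2.2.2.1 := by
  decide +kernel

theorem scan5 : allBelowK cN (fun p => !(cand S5 5 p) || memK L5 p) = true := by decide +kernel

theorem scan0 : allBelowK cN (fun p => !(cand S5 0 p) || memK L0 p) = true := by decide +kernel

theorem scan9 : allBelowK cN (fun p => !(cand S5 9 p) || memK L9 p) = true := by decide +kernel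

theorem scan6 : allBelowK cN (fun p => !(cand S5 6 p) || memK L6 p) = true := by decide +kernel

theorem scan7 : allBelowK cN (fun p => !(cand S5 7 p) || memK L6 p) = true := by decide +kernel

theorem ext2_one : wprod uu ext2 = 1 :=
  wprod_eq_one_of_fix ext2 (by decide) (by decide +kernel)

end Cfsg.Agent.Lib.Helper12.OutFi23.FinalData
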