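import Cfsg.Agent.Lib.Helper12.OutFi23.Rigid
import Cfsg.Agent.Lib.Helper12.OutFi23.Central
import Cfsg.Prelude.Def_KGroupFacts

/-!
The automorphisms of the presented group Fi23 are inner (helper12).
-/

set_option autoImplicit false

namespace Cfsg.Agent.Lib.Helper12.OutFi23.Main

open Cfsg Cfsg.Spor Cfsg.Agent.Lib.Helper12.Ord.Fi23Simple

theorem inn_eq_top : Cfsg.Inn (PresentedGroup R) = ⊤ := by
  rw [eq_top_iff]
  intro β _
  obtain ⟨g, hg⟩ := Rigid.inner_of_tt β (Central.tt_class β)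
  refine ⟨g, ?_⟩
  ext x
  rw [MulAut.conj_apply, hg]

theorem card_out : Nat.card (Cfsg.Out Cfsg.Spor.Fi23) = 1 := by
  show (Cfsg.Inn (PresentedGroup R)).index = 1
  rw [Subgroup.index_eq_one]
  exact inn_eq_top

end Cfsg.Agent.Lib.Helper12.OutFi23.Main
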