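import Cfsg.Agent.Lib.Helper12.OutFi23.CertChk1a
import Cfsg.Agent.Lib.Helper12.OutFi23.CertChk1b
import Cfsg.Agent.Lib.Helper12.OutFi23.CertChk2
import Cfsg.Agent.Lib.Helper12.OutFi23.CertChk3
import Cfsg.Agent.Lib.Helper12.OutFi23.CertChk4
import Cfsg.Agent.Lib.Helper12.OutFi23.Final

/-!
The automorphisms of the presented group Fi23 which preserve the class of the transpositions are inner: the chain of the
stabilisers of the points of the generators (helper12).
-/

set_option autoImplicit false
set_option maxRecDepth 100000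

namespace Cfsg.Agent.Lib.Helper12.OutFi23.Rigid

open Cfsg.Spor Cfsg.Agent.Lib.Helper12.TC Cfsg.Agent.Lib.Helper12.TC.Fi23o31671
  Cfsg.Agent.Lib.Helper12.TC.Fi23Pres Cfsg.Agent.Lib.Helper12.Ord
  Cfsg.Agent.Lib.Helper12.Ord.Fi23Simple Cfsg.Agent.Lib.Helper12.Ord.Fi23Transp
  Cfsg.Agent.Lib.Helper12.SylFi23.Base Cfsg.Agent.Lib.Helper12.OutFi23.Transp
  Cfsg.Agent.Lib.Helper12.OutFi23.Cert Cfsg.Agent.Lib.Helper12.OutFi23.CertData

theorem all_of_chunks (f : ℕ → Bool) (m N : ℕ) (h1 : allBelowK m f = true)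
    (h2 : allBelowK N (fun p => Nat.blt p m || f p) = true) : ∀ p < N, f p = true := by
  intro p hp
  rcases Nat.lt_or_ge p m with h | h
  · exact (allBelowK_iff _ _).mp h1 p h
  · have h3 := (allBelowK_iff _ _).mp h2 p hp
    rw [Bool.or_eq_true] at h3
    rcases h3 with h3 | h3
    · exact absurd (Nat.le_of_ble_eq_true h3) (by omega)
    · exact h3

theorem good1 : GoodWords [3] gw1 := by
  unfold GoodWords
  decide +kernel

theorem good2 : GoodWords [2, 3] gw2 := by
  unfold GoodWords
  decide +kernel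

theorem good3 : GoodWords [4, 2, 3] gw3 := by
  unfold GoodWords
  decide +kernel

theorem good4 : GoodWords [1, 4, 2, 3] gw4 := by
  unfold GoodWords
  decide +kernel

theorem reach1 : ∀ p < cN, cand [3] 2 p = true → Reach [3] 2 p :=
  reach_of_chk [3] 2 gw1 (dt 0) (by decide) good1
    (all_of_chunks _ 16000 cN CertChk1a.chk CertChk1b.chk)

theorem reach2 : ∀ p < cN, cand [2, 3] 4 p = true → Reach [2, 3] 4 p :=
  reach_of_chk [2, 3] 4 gw2 (dt 1) (by decide) good2 ((allBelowK_iff _ _).mp CertChk2.chk)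

theorem reach3 : ∀ p < cN, cand [4, 2, 3] 1 p = true → Reach [4, 2, 3] 1 p :=
  reach_of_chk [4, 2, 3] 1 gw3 (dt 2) (by decide) good3 ((allBelowK_iff _ _).mp CertChk3.chk)

theorem reach4 : ∀ p < cN, cand [1, 4, 2, 3] 8 p = true → Reach [1, 4, 2, 3] 8 p :=
  reach_of_chk [1, 4, 2, 3] 8 gw4 (dt 3) (by decide) good4 ((allBelowK_iff _ _).mp CertChk4.chk)

/-- the chain of the stabilisers -/
theorem rigid : Q [] := by
  apply step [] 3 (by decide) (by norm_num) (by decide) (reach_nil 3 (by norm_num))
  apply step [3] 2 (by decide) (by norm_num) (by decide) reach1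
  apply step [2, 3] 4 (by decide) (by norm_num) (by decide) reach2
  apply step [4, 2, 3] 1 (by decide) (by norm_num) (by decide) reach3
  apply step [1, 4, 2, 3] 8 (by decide) (by norm_num) (by decide) reach4
  apply Final.final
  exact base _ (by decide)

/-- an automorphism which maps the central element of the subgroup to a conjugate is inner -/
theorem inner_of_tt (β : PresentedGroup R ≃* PresentedGroup R) (h : β tt ∈ conjugatesOf tt) :
    ∃ g : PresentedGroup R, ∀ x, β x = g * x * g⁻¹ :=
  rigid β (pres_of_tt β h) (fun _ hk => absurd hk List.not_mem_nil)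

end Cfsg.Agent.Lib.Helper12.OutFi23.Rigid
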